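import Mathlib

/-!
Counting lemmas for a group with a normal subgroup acting on a finite set.
-/

set_option autoImplicit false
set_option linter.style.haveILetI false

namespace Cfsg.Agent.H95.J4Rank

open MulAction

/-- A cover by sets below the bounds with the exact total is a partition with equality everywhere. -/
theorem exact_cover {X ι : Type*} [Fintype ι] [DecidableEq ι] [Finite X] (A : ι → Set X)
    (b : ι → ℕ) (hcov : ∀ q, ∃ i, q ∈ A i) (hle : ∀ i, (A i).ncard ≤ b i)
    (hsum : ∑ i, b i = Nat.card X) :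
    (∀ i, (A i).ncard = b i) ∧ ∀ i j, i ≠ j → Disjoint (A i) (A j) := by
  classical
  haveI : Fintype X := Fintype.ofFinite X
  have hB : ∀ i, (A i).toFinset.card = (A i).ncard := fun i => (Set.ncard_eq_toFinset_card' _).symm
  have hU : (Finset.univ.biUnion fun i => (A i).toFinset) = (Finset.univ : Finset X) := by
    refine Finset.eq_univ_of_forall fun q => ?_
    obtain ⟨i, hi⟩ := hcov q
    exact Finset.mem_biUnion.2 ⟨i, Finset.mem_univ _, Set.mem_toFinset.2 hi⟩
  have h1 : Nat.card X ≤ ∑ i, (A i).ncard := by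
    rw [Nat.card_eq_fintype_card, ← Finset.card_univ, ← hU]
    exact Finset.card_biUnion_le.trans (le_of_eq (Finset.sum_congr rfl fun i _ => hB i))
  have heq : ∀ i, (A i).ncard = b i := by
    intro i
    refine le_antisymm (hle i) ?_
    by_contra hlt
    have : ∑ j, (A j).ncard < ∑ j, b j :=
      Finset.sum_lt_sum (fun j _ => hle j) ⟨i, Finset.mem_univ i, not_le.1 hlt⟩
    omega
  refine ⟨heq, fun i j hij => ?_⟩
  rw [Set.disjoint_left]
  intro q hqi hqj
  have h2 : Nat.card X < ∑ k, b k := by
    have hcov' : (Finset.univ : Finset X) ⊆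
        ((Finset.univ.erase i).biUnion fun k => (A k).toFinset) ∪ (A i).toFinset.erase q := by
      intro p _
      obtain ⟨k, hk⟩ := hcov p
      by_cases hp : p = q
      · exact Finset.mem_union_left _ (Finset.mem_biUnion.2
          ⟨j, Finset.mem_erase.2 ⟨Ne.symm hij, Finset.mem_univ _⟩, Set.mem_toFinset.2 (hp ▸ hqj)⟩)
      · by_cases hki : k = i
        · exact Finset.mem_union_right _ (Finset.mem_erase.2 ⟨hp, Set.mem_toFinset.2 (hki ▸ hk)⟩)
        · exact Finset.mem_union_left _ (Finset.mem_biUnion.2
            ⟨k, Finset.mem_erase.2 ⟨hki, Finset.mem_univ _⟩, Set.mem_toFinset.2 hk⟩)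
    have h3 := (Finset.card_le_card hcov').trans (Finset.card_union_le _ _)
    have h4 : ((Finset.univ.erase i).biUnion fun k => (A k).toFinset).card ≤
        ∑ k ∈ Finset.univ.erase i, b k :=
      Finset.card_biUnion_le.trans (le_of_eq (Finset.sum_congr rfl fun k _ => (hB k).trans (heq k)))
    have h5 : ((A i).toFinset.erase q).card + 1 = b i := by
      rw [Finset.card_erase_add_one (Set.mem_toFinset.2 hqi), hB, heq]
    have h6 : ∑ k ∈ Finset.univ.erase i, b k + b i = ∑ k, b k :=
      Finset.sum_erase_add _ _ (Finset.mem_univ i)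
    rw [Finset.card_univ, ← Nat.card_eq_fintype_card] at h3
    omega
  omega

section Block

variable {H X : Type*} [Group H] [MulAction H X]

/-- The number of `E`-orbits in a transitive part divides the length of each orbit of a supplement. -/
theorem index_sup_stab_dvd [Finite H] {E R : Subgroup H} [E.Normal] (hER : E ⊔ R = ⊤)
    {x y : X} (hy : y ∈ orbit H x) :
    (E ⊔ stabilizer H x).index ∣ (orbit ↥R y).ncard := by
  obtain ⟨h, rfl⟩ := hy
  have hidx : (E ⊔ stabilizer H (h • x)).index = (E ⊔ stabilizer H x).index := by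
    rw [stabilizer_smul_eq_stabilizer_map_conj]
    have hE : E.map (MulAut.conj h).toMonoidHom = E := by
      ext a
      rw [Subgroup.mem_map]
      constructor
      · rintro ⟨b, hb, rfl⟩
        exact (inferInstance : E.Normal).conj_mem b hb h
      · intro ha
        refine ⟨h⁻¹ * a * h, ?_, by simp [mul_assoc]⟩
        simpa using (inferInstance : E.Normal).conj_mem a ha h⁻¹
    conv_lhs => rw [← hE]
    rw [← Subgroup.map_sup]
    exact Subgroup.index_map_equiv _ (MulAut.conj h)
  rw [← hidx]
  set M := E ⊔ stabilizer H (h • x) with hM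
  have hrel : (M.subgroupOf R).index = M.index := by
    refine Nat.card_congr (Equiv.ofBijective
      (Quotient.lift (fun r : ↥R => (QuotientGroup.mk (r : H) : H ⧸ M)) ?_) ⟨?_, ?_⟩)
    · intro a b hab
      rw [← Quotient.eq_iff_equiv, Quotient.eq, QuotientGroup.leftRel_apply] at hab
      exact QuotientGroup.eq.2 (by simpa [Subgroup.mem_subgroupOf] using hab)
    · intro a b
      induction a using Quotient.inductionOn
      induction b using Quotient.inductionOn
      intro e
      simp only [Quotient.lift_mk] at e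
      refine Quotient.sound (QuotientGroup.leftRel_apply.2 ?_)
      simpa [Subgroup.mem_subgroupOf] using QuotientGroup.eq.1 e
    · intro q
      obtain ⟨g, rfl⟩ := QuotientGroup.mk_surjective q
      have hg : g ∈ R ⊔ E := by rw [sup_comm, hER]; trivial
      rw [Subgroup.mem_sup_of_normal_right] at hg
      obtain ⟨r, hr, e, he, rfl⟩ := hg
      refine ⟨Quotient.mk _ ⟨r, hr⟩, ?_⟩
      simp only [Quotient.lift_mk]
      exact QuotientGroup.eq.2 (by simpa using (le_sup_left : E ≤ M) he)
  rw [← hrel, ← index_stabilizer]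
  refine Subgroup.index_dvd_of_le fun r hr => ?_
  exact Subgroup.mem_subgroupOf.2 ((le_sup_right : _ ≤ M) hr)

/-- A nontrivial element of `E` fixing the point makes the join at most half as large. -/
theorem card_sup_stab_le [Finite H] {E : Subgroup H} [E.Normal] {x : X} {ε : H} (hε : ε ∈ E)
    (hε1 : ε ≠ 1) (hfix : ε • x = x) :
    2 * Nat.card ↥(E ⊔ stabilizer H x : Subgroup H) ≤ Nat.card ↥E * Nat.card ↥(stabilizer H x) := by
  set S := stabilizer H x
  have h1 := Subgroup.relIndex_mul_relIndex ⊥ E (E ⊔ S) bot_le le_sup_left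
  rw [Subgroup.relIndex_bot_left, Subgroup.relIndex_bot_left, Subgroup.relIndex_sup_left] at h1
  have h2 := Subgroup.relIndex_mul_relIndex ⊥ (E ⊓ S) S bot_le inf_le_right
  rw [Subgroup.relIndex_bot_left, Subgroup.relIndex_bot_left, Subgroup.inf_relIndex_right] at h2
  have h3 : 2 ≤ Nat.card ↥(E ⊓ S : Subgroup H) := by
    haveI : Nontrivial ↥(E ⊓ S : Subgroup H) :=
      ⟨⟨⟨ε, hε, hfix⟩, 1, fun e => hε1 (congrArg Subtype.val e)⟩⟩
    exact Finite.one_lt_card
  rw [← h1, ← h2]
  calc 2 * (Nat.card ↥E * E.relIndex S)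
      ≤ Nat.card ↥(E ⊓ S : Subgroup H) * (Nat.card ↥E * E.relIndex S) :=
        Nat.mul_le_mul_right _ h3
    _ = _ := by ring

end Block

end Cfsg.Agent.H95.J4Rank
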