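import Cfsg.Agent.H95.J4Rank.Orbits
import Cfsg.Agent.H99.J4U.Final
import Cfsg.Agent.S5566
import Cfsg.Agent.S5567

/-!
The rank seven action of a group of Janko-four type on the cosets of the normaliser of `2^11`.
-/

set_option autoImplicit false
set_option linter.style.haveILetI false

namespace Cfsg.Agent.H95.J4Rank

open Cfsg Cfsg.Agent.Golay Subgroup MulAction

universe u v

variable {G : Type u} [Group G] [Finite G]

theorem exists_conj_eleven [IsSimpleGroup G] (hG : ¬ IsMulCommutative G) (hJ : Cfsg.IsOfJankoFourType G)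
    {U V : Subgroup G} (hU : Cfsg.IsElementaryAbelian 2 U) (hUc : Nat.card ↥U = 2 ^ 11)
    (hV : Cfsg.IsElementaryAbelian 2 V) (hVc : Nat.card ↥V = 2 ^ 11) :
    ∃ g : G, U.map (MulAut.conj g).toMonoidHom = V := by
  haveI : Fact (Nat.Prime 2) := ⟨Nat.prime_two⟩
  have hp : ∀ {W : Subgroup G}, Nat.card ↥W = 2 ^ 11 → IsPGroup 2 ↥W := fun h => IsPGroup.of_card h
  obtain ⟨S, hS⟩ := (hp hUc).exists_le_sylow
  obtain ⟨T, hT⟩ := (hp hVc).exists_le_sylow
  obtain ⟨g, hg⟩ := MulAction.exists_smul_eq G S T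
  refine ⟨g, (S5566.result hG hJ T).unique ⟨?_, ?_, ?_⟩ ⟨hT, hV, hVc⟩⟩
  · rw [← hg, Sylow.coe_subgroup_smul, Subgroup.pointwise_smul_def]
    exact Subgroup.map_mono hS
  · refine ⟨⟨⟨?_⟩⟩, ?_⟩
    · rintro ⟨_, a, ha, rfl⟩ ⟨_, b, hb, rfl⟩
      have h := congrArg Subtype.val (hU.1.is_comm.comm ⟨a, ha⟩ ⟨b, hb⟩)
      simp only [Subgroup.coe_mul] at h
      exact Subtype.ext (by simp only [Subgroup.coe_mul, ← map_mul, h])
    · rintro _ ⟨a, ha, rfl⟩
      rw [← map_pow, hU.2 a ha, map_one]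
  · rw [Subgroup.card_map_of_injective (MulAut.conj g).injective, hUc]

theorem index_normalizer [IsSimpleGroup G] (hG : ¬ IsMulCommutative G) {z : G}
    (hJ : Cfsg.IsOfJankoFourTypeAt z) {V : Subgroup G} (hV : Cfsg.IsElementaryAbelian 2 V)
    (hVc : Nat.card ↥V = 2 ^ 11) : (normalizer (V : Set G)).index = 173067389 := by
  obtain ⟨-, K, hK, hKV, hsup, ⟨e⟩⟩ := S5567.result hG ⟨z, hJ⟩ V hV hVc
  have h1 := Subgroup.relIndex_mul_relIndex ⊥ V (K ⊔ V) bot_le le_sup_right
  rw [Subgroup.relIndex_bot_left, Subgroup.relIndex_bot_left, hsup, hVc] at h1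
  haveI : (V.subgroupOf (normalizer (V : Set G))).Normal :=
    Subgroup.normal_subgroupOf_of_le_normalizer le_rfl
  have h2 : V.relIndex (normalizer (V : Set G)) = 244823040 := by
    have hs : K.subgroupOf (normalizer (V : Set G)) ⊔ V.subgroupOf (normalizer (V : Set G)) = ⊤ := by
      rw [← subgroupOf_sup hK le_normalizer, hsup, subgroupOf_self]
    rw [Subgroup.relIndex, ← Subgroup.relIndex_top_right, ← hs, Subgroup.relIndex_sup_right,
      ← Subgroup.inf_relIndex_right, show V.subgroupOf (normalizer (V : Set G)) ⊓ K.subgroupOf (normalizer (V : Set G)) = (K ⊓ V).subgroupOf (normalizer (V : Set G)) by rw [inf_comm]; rfl, hKV]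
    rw [bot_subgroupOf, relIndex_bot_left, Nat.card_congr (subgroupOfEquivOfLe hK).toEquiv,
      Nat.card_congr e.toEquiv]
    exact Cfsg.Agent.Golay.card_M24
  rw [h2] at h1
  have h3 := Subgroup.card_mul_index (normalizer (V : Set G))
  rw [← h1, H99.J4U.card_eq hG hJ] at h3
  exact Nat.eq_of_mul_eq_mul_left (by norm_num : 0 < 2 ^ 11 * 244823040) (h3.trans (by norm_num))

theorem elementary_EE : Cfsg.IsElementaryAbelian 2 Cfsg.Agent.H56.J4.E.EE := by
  have h1 : ∀ a ∈ Cfsg.Agent.H56.J4.E.EE, ∀ b ∈ Cfsg.Agent.H56.J4.E.EE, a * b = b * a := by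
    intro a ha b hb
    have : Commute a b := by
      induction hb using Subgroup.closure_induction with
      | mem c hc =>
        induction ha using Subgroup.closure_induction with
        | mem d hd => exact H56.J4.E.bs_spec.2 d hd c hc
        | one => exact Commute.one_left c
        | mul x y _ _ hx hy => exact hx.mul_left hy
        | inv x _ hx => exact hx.inv_left
      | one => exact Commute.one_right a
      | mul x y _ _ hx hy => exact hx.mul_right hy
      | inv x _ hx => exact hx.inv_right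
    exact this.eq
  refine ⟨⟨⟨fun a b => Subtype.ext (h1 a a.2 b b.2)⟩⟩, fun a ha => ?_⟩
  induction ha using Subgroup.closure_induction with
  | mem c hc => rw [pow_two]; exact H56.J4.E.bs_spec.1 c hc
  | one => exact one_pow 2
  | mul x y hx' hy' hx hy =>
    rw [(show Commute x y from h1 x hx' y hy').mul_pow, hx, hy, one_mul]
  | inv x _ hx => rw [inv_pow, hx, inv_one]

theorem row5629 [IsSimpleGroup G] (hG : ¬ IsMulCommutative G) (z : G) (hJ : Cfsg.IsOfJankoFourTypeAt z)
    (V : Subgroup G) (hV : Cfsg.IsElementaryAbelian 2 V) (hcard : Nat.card ↥V = 2 ^ 11) :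
    (Subgroup.normalizer (V : Set G)).index = 173067389 ∧
    ∃ c : Fin 7 → G ⧸ Subgroup.normalizer (V : Set G),
      (∀ i j : Fin 7, i ≠ j → MulAction.orbit ↥(Subgroup.normalizer (V : Set G)) (c i) ≠
        MulAction.orbit ↥(Subgroup.normalizer (V : Set G)) (c j)) ∧
      (∀ q : G ⧸ Subgroup.normalizer (V : Set G),
        ∃ i : Fin 7, q ∈ MulAction.orbit ↥(Subgroup.normalizer (V : Set G)) (c i)) ∧
      (List.ofFn fun i => (MulAction.orbit ↥(Subgroup.normalizer (V : Set G)) (c i)).ncard) =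
        [1, 15180, 28336, 3400320, 32643072, 54405120, 82575360] := by
  obtain ⟨e0⟩ := H99.J4U.isoJ4 hG hJ
  set EE := Cfsg.Agent.H56.J4.E.EE with hEE
  set HH := Cfsg.Agent.H56.J4.HH with hHH
  have hU : Cfsg.IsElementaryAbelian 2 (EE.map e0.symm.toMonoidHom) := by
    refine ⟨⟨⟨?_⟩⟩, ?_⟩
    · rintro ⟨_, a, ha, rfl⟩ ⟨_, b, hb, rfl⟩
      have h := congrArg Subtype.val (elementary_EE.1.is_comm.comm ⟨a, ha⟩ ⟨b, hb⟩)
      simp only [Subgroup.coe_mul] at h
      exact Subtype.ext (by simp only [Subgroup.coe_mul, ← map_mul, h])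
    · rintro _ ⟨a, ha, rfl⟩
      rw [← map_pow, elementary_EE.2 a ha, map_one]
  have hUc : Nat.card ↥(EE.map e0.symm.toMonoidHom) = 2 ^ 11 := by
    rw [Subgroup.card_map_of_injective e0.symm.injective, hEE, card_EE]; norm_num
  obtain ⟨g, hg⟩ := exists_conj_eleven hG ⟨z, hJ⟩ hV hcard hU hUc
  let e : G ≃* Spor.J4 := (MulAut.conj g).trans e0
  have hVE : V.map e.toMonoidHom = EE := by
    rw [show e.toMonoidHom = e0.toMonoidHom.comp (MulAut.conj g).toMonoidHom from rfl,
      ← Subgroup.map_map, hg, Subgroup.map_map,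
      show e0.toMonoidHom.comp e0.symm.toMonoidHom = MonoidHom.id _ from
        MonoidHom.ext e0.apply_symm_apply, Subgroup.map_id]
  have hidx := index_normalizer hG hJ hV hcard
  have hN : (normalizer (V : Set G)).map e.toMonoidHom = HH := by
    have hle : HH ≤ (normalizer (V : Set G)).map e.toMonoidHom := by
      intro x hx
      refine ⟨e.symm x, ?_, e.apply_symm_apply x⟩
      have hn := mem_normalizer_iff.1 (HH_le_normalizer hx)
      rw [SetLike.mem_coe, mem_normalizer_iff]
      intro a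
      have hm : ∀ b, b ∈ V ↔ e b ∈ EE := fun b => by
        rw [← hVE]; exact (Subgroup.mem_map_iff_mem e.injective).symm
      rw [hm, hm, map_mul, map_mul, map_inv, e.apply_symm_apply]
      exact hn (e a)
    refine (Subgroup.eq_of_le_of_card_ge hle ?_).symm
    rw [Subgroup.card_map_of_injective e.injective]
    have h1 := Subgroup.card_mul_index (normalizer (V : Set G))
    have h2 := Subgroup.card_mul_index HH
    rw [hidx] at h1
    rw [index_HH] at h2
    have h3 : Nat.card G = Nat.card Spor.J4 := Nat.card_congr e.toEquiv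
    exact le_of_eq (Nat.eq_of_mul_eq_mul_right (by norm_num : 0 < 173067389)
      (h1.trans (h3.trans h2.symm)))
  have hmem : ∀ n, n ∈ normalizer (V : Set G) ↔ e n ∈ HH := fun n => by
    rw [← hN]; exact (Subgroup.mem_map_iff_mem e.injective).symm
  let ψ : G ⧸ normalizer (V : Set G) ≃ Spor.J4 ⧸ HH :=
    Quotient.congr e.toEquiv fun a b => by
      show QuotientGroup.leftRel _ a b ↔ QuotientGroup.leftRel _ (e a) (e b)
      rw [QuotientGroup.leftRel_apply, QuotientGroup.leftRel_apply, hmem, map_mul, map_inv]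
  have hψ : ∀ a : G, ψ (QuotientGroup.mk a) = QuotientGroup.mk (e a) := fun a => rfl
  have horb : ∀ q, ψ '' (orbit ↥(normalizer (V : Set G)) q) = orbit ↥HH (ψ q) := by
    intro q
    obtain ⟨a, rfl⟩ := QuotientGroup.mk_surjective q
    ext p
    constructor
    · rintro ⟨_, ⟨⟨n, hn⟩, rfl⟩, rfl⟩
      refine ⟨⟨e n, (hmem n).1 hn⟩, ?_⟩
      show QuotientGroup.mk (e n * e a) = ψ (QuotientGroup.mk (n * a))
      rw [hψ, map_mul]
    · rintro ⟨⟨x, hx⟩, rfl⟩
      refine ⟨_, ⟨⟨e.symm x, (hmem _).2 (by rwa [e.apply_symm_apply])⟩, rfl⟩, ?_⟩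
      show ψ (QuotientGroup.mk (e.symm x * a)) = QuotientGroup.mk (x * e a)
      rw [hψ, map_mul, e.apply_symm_apply]
  obtain ⟨hne, hcov, hsz⟩ := seven_orbits
  refine ⟨hidx, fun k => ψ.symm (pnt (root k)), fun i j hij he => hne i j hij ?_, fun q => ?_, ?_⟩
  · have := congrArg (ψ '' ·) he
    simp only [horb, ψ.apply_symm_apply] at this
    exact this
  · obtain ⟨k, hk⟩ := hcov (ψ q)
    refine ⟨k, ?_⟩
    have h : ψ q ∈ ψ '' orbit ↥(normalizer (V : Set G)) (ψ.symm (pnt (root k))) := by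
      rw [horb, ψ.apply_symm_apply]; exact hk
    exact (ψ.injective.mem_set_image).1 h
  · have h : ∀ k, (orbit ↥(normalizer (V : Set G)) (ψ.symm (pnt (root k)))).ncard = size k := by
      intro k
      rw [← Set.ncard_image_of_injective _ ψ.injective, horb, ψ.apply_symm_apply]
      exact hsz k
    simp only [h]
    rfl

end Cfsg.Agent.H95.J4Rank
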