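import Cfsg.Agent.H56.J4.Upper

/-!
Edges between the nodes of the coset table of presented J4 by the generator outside `M24`.
-/

set_option autoImplicit false
set_option maxRecDepth 100000

namespace Cfsg.Agent.H95.J4Rank

open Cfsg Cfsg.Agent.Golay Cfsg.Agent.H56.J4 Cfsg.Agent.H56.J4.Up

/-- a derived move: from node `i` at table `m` to node `j` at table `m'` -/
structure Mv where
  i : ℕ
  j : ℕ
  m : ℕ
  m' : ℕ
  ms : List ℕ

/-- the trios of the generator -/
def hks : List ℕ := [2840988408967416003660, 3302040166890704743140, 2768455657687974226245]

/-- the check of one move -/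
noncomputable def mvOK (e : Mv) : Bool :=
  inM24 e.m && inM24 e.m' && walk facts 4534 e.ms e.i e.m hks fun a b => Nat.beq a e.j && Nat.beq b e.m'

/-- the moves joining the nodes -/
def joins : List Mv := [
  ⟨1, 8, 762793792229111279861355558704154849, 234595647002155333000927514332604083, [47, 47, 6, 75, 71, 63, 1296, 1530]⟩,
  ⟨2, 9, 848962285993680281058308211466340621, 41924418329026714478020495377414626, [3022, 3017, 3870, 5134]⟩,
  ⟨2, 6, 3340839595644353346357848080751753, 803997257220466660122866315211322479, [87, 65, 75, 1296, 1187, 1472, 1201, 1328]⟩,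
  ⟨3, 17, 564666382816502010128193017069834402, 100081359776964790826403142370569866, [2222, 2120, 1191, 2116]⟩,
  ⟨3, 15, 982201803320936240478895382961094886, 398728127700144392481074414851857675, [111, 3124, 3184, 3017, 7774]⟩,
  ⟨3, 5, 812838206485415101424386260630756904, 273422476452041479325196564533726256, [111, 99, 130, 101, 103, 99, 2614, 1625, 1772]⟩,
  ⟨3, 10, 718449858748624877144445719954050098, 975273449376750535815083648052939989, [103, 111, 103, 99, 3064, 7670, 990]⟩,
  ⟨4, 19, 889446569884395482329077668261136722, 427798066415227039126588711665516049, [4526, 5262, 3017, 8062]⟩,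
  ⟨4, 16, 221569606352417707821383282439109291, 630503263538713200396471017057587477, [6936, 3017, 3017, 6498, 1625, 1668]⟩,
  ⟨6, 12, 595465306673473453161993038027853939, 127698788316146160576743134299790817, [375, 393, 668, 567, 563, 920, 955, 895, 1024]⟩,
  ⟨7, 11, 590765789103060868697011849467877576, 525180335430467598101147772534338671, [453, 453, 457, 443, 1104, 923, 955, 924, 24]⟩,
  ⟨14, 17, 640259500282683067257754616641225032, 88324431265592433631279810779454793, [835, 837, 851, 7422, 4836, 2454]⟩,
  ⟨20, 18, 833493670021672515451099540056612555, 564197084809506086259589632022453462, [9000, 3017, 3017, 6406, 3017, 6126]⟩]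

/-- a move fixing a node -/
def fixed : Mv := ⟨16, 16, 360190699846698989011145044618510388, 360190699846698989011145044618510388, [1512, 1201, 1600, 527, 523, 1602, 1191, 1201]⟩

theorem moves_ok : (fixed :: joins).all mvOK = true := by decide +kernel

end Cfsg.Agent.H95.J4Rank
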