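import Cfsg.Agent.H95.J4Rank.Moves
import Cfsg.Agent.H95.J4Rank.Action
import Cfsg.Agent.S1703

/-!
The seven orbits of `2^11:M24` on its cosets in presented J4.
-/

set_option autoImplicit false
set_option maxRecDepth 100000
set_option linter.style.haveILetI false

namespace Cfsg.Agent.H95.J4Rank

open Cfsg Cfsg.Agent.Golay Cfsg.Agent.H56.J4 Cfsg.Agent.H56.J4.Up
open MulAction Subgroup

/-! ### Orders -/

instance finite_J : Finite J := Cfsg.Agent.H56.J4.E.finite_J

theorem index_HH : HH.index = 173067389 :=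
  index_eq_of_dvd (by rw [S1703.card]; norm_num)

theorem card_HH : Nat.card ↥HH = 501397585920 := by
  have h := Subgroup.card_mul_index HH
  rw [index_HH, S1703.card] at h
  exact Nat.eq_of_mul_eq_mul_right (by norm_num : 0 < 173067389) (h.trans (by norm_num))

theorem card_range : Nat.card ↥phi.range = 244823040 := by
  rw [← Cfsg.Agent.H56.J4.card_M24]
  exact (Nat.card_congr (MonoidHom.ofInjective phi_injective).toEquiv).symm

theorem range_le_normalizer : phi.range ≤ normalizer (E.EE : Set J) := by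
  intro g hg
  rw [mem_normalizer_iff]
  intro a
  constructor
  · intro ha
    have := E.range_normalizes g⁻¹ (phi.range.inv_mem hg) a ha
    rwa [inv_inv] at this
  · intro ha
    have := E.range_normalizes g hg _ ha
    simpa [mul_assoc] using this

theorem HH_le_normalizer : HH ≤ normalizer (E.EE : Set J) := by
  rw [HH_eq_sup]
  exact sup_le le_normalizer range_le_normalizer

theorem card_EE : Nat.card ↥E.EE = 2048 := by
  have h1 := Subgroup.relIndex_mul_relIndex ⊥ E.EE (E.EE ⊔ phi.range) bot_le le_sup_left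
  rw [Subgroup.relIndex_bot_left, Subgroup.relIndex_bot_left, ← HH_eq_sup, card_HH] at h1
  haveI : (E.EE.subgroupOf HH).Normal :=
    Subgroup.normal_subgroupOf_of_le_normalizer HH_le_normalizer
  have e : (E.EE.subgroupOf HH).relIndex (phi.range.subgroupOf HH) = E.EE.relIndex HH := by
    have hs : E.EE.subgroupOf HH ⊔ phi.range.subgroupOf HH = ⊤ := by
      rw [← subgroupOf_sup EE_le_HH range_le, ← HH_eq_sup, subgroupOf_self]
    rw [← Subgroup.relIndex_sup_left (H := phi.range.subgroupOf HH), hs,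
      Subgroup.relIndex_top_right]
    rfl
  have h2 : E.EE.relIndex HH ∣ 244823040 := by
    rw [← e, ← card_range, ← Nat.card_congr (subgroupOfEquivOfLe range_le).toEquiv]
    exact Subgroup.relIndex_dvd_card _ _
  have h3 : 501397585920 ∣ Nat.card ↥E.EE * 244823040 := h1 ▸ Nat.mul_dvd_mul_left _ h2
  have h4 : 2048 ∣ Nat.card ↥E.EE :=
    Nat.dvd_of_mul_dvd_mul_right (by norm_num : 0 < 244823040) (by simpa using h3)
  exact Nat.dvd_antisymm (by simpa using EE_card_dvd) h4

theorem tP_hks : tP phi jt S0 hks = hh := by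
  obtain ⟨hp, he⟩ := cube_rel vH (p := idN) (k1 := 2840988408967416003660)
    (k2 := 3302040166890704743140) (k3 := 2768455657687974226245)
    (by decide +kernel) (by decide +kernel) (by decide +kernel) (by decide +kernel)
    (winv3_prod vH (by decide))
  rw [pv_idN, one_mul] at he
  exact he

theorem hh_mem_EE : hh ∈ E.EE := E.EE_facts.1

theorem hh_ne_one : hh ≠ 1 := by
  intro h
  have hle : HH ≤ phi.range := by
    refine (closure_le _).2 ?_
    rintro g (rfl | rfl | rfl)
    · exact ⟨gX, phi_gX⟩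
    · exact ⟨gY, phi_gY⟩
    · rw [SetLike.mem_coe, h]; exact one_mem _
  have := Subgroup.card_le_of_le hle
  rw [card_HH, card_range] at this
  norm_num at this

/-! ### Nodes -/

/-- the coset of a node -/
noncomputable def pnt (i : ℕ) : J ⧸ HH := QuotientGroup.mk (rep i)⁻¹

/-- the nodes -/
def nd : Fin 20 → ℕ := ![0, 1, 2, 3, 4, 5, 6, 7, 8, 9, 10, 11, 12, 14, 15, 16, 17, 18, 19, 20]

/-- the class of a node -/
def cl : Fin 20 → Fin 7 := ![0, 1, 3, 5, 4, 5, 3, 2, 1, 3, 5, 2, 3, 5, 5, 4, 5, 6, 4, 6]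

/-- the first node of a class -/
def root : Fin 7 → ℕ := ![0, 1, 7, 2, 4, 3, 18]

/-- the length of a class -/
def size : Fin 7 → ℕ := ![1, 15180, 28336, 3400320, 32643072, 54405120, 82575360]

/-- the orbit of the Mathieu group at a node -/
noncomputable def mOrb (a : Fin 20) : Set (J ⧸ HH) := Set.range fun m : ↥M24 => phi m • pnt (nd a)

theorem mem_nodeList {j : ℕ} (hj : j ∈ nodeList) : ∃ a, nd a = j := by
  revert j; decide

theorem nd_mem (a : Fin 20) : nd a ∈ nodeList := by revert a; decide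

theorem cov_all (g : J) : Cov phi HH rep nodeList g := by
  have hg : g ∈ closure (Set.range phi ∪ {jt}) := gen_top ▸ mem_top g
  have key : ∀ x, x ∈ closure (Set.range phi ∪ {jt}) →
      ∀ a, Cov phi HH rep nodeList a → Cov phi HH rep nodeList (a * x) ∧
        Cov phi HH rep nodeList (a * x⁻¹) := by
    intro x hx
    have ht : ∀ a, Cov phi HH rep nodeList a → Cov phi HH rep nodeList (a * jt) := by
      rintro a ⟨i, hi, m, hm⟩
      obtain ⟨p, hp, e⟩ := orbit_table m
      obtain ⟨j, hj, m', hm'⟩ := cover i hi p hp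
      rw [tK, ← e, tau_base cen] at hm'
      refine ⟨j, hj, m' * m, (hm.mul jt).trans ?_⟩
      have := hm'.mul (phi m)
      rw [map_mul, ← mul_assoc]
      convert this using 1
      group
    induction hx using closure_induction with
    | mem y hy =>
      intro a ha
      rcases hy with ⟨m, rfl⟩ | hy
      · obtain ⟨i, hi, n, hn⟩ := ha
        exact ⟨⟨i, hi, n * m, by simpa [mul_assoc] using hn.mul (phi m)⟩,
          ⟨i, hi, n * m⁻¹, by simpa [mul_assoc] using hn.mul (phi m)⁻¹⟩⟩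
      · rw [Set.mem_singleton_iff] at hy
        subst hy
        rw [jt_inv]
        exact ⟨ht a ha, ht a ha⟩
    | one => intro a ha; simpa using ha
    | mul y z _ _ hy hz =>
      intro a ha
      rw [← mul_assoc, mul_inv_rev, ← mul_assoc]
      exact ⟨(hz _ (hy a ha).1).1, (hy _ (hz a ha).2).2⟩
    | inv y _ hy => intro a ha; rw [inv_inv]; exact ⟨(hy a ha).2, (hy a ha).1⟩
  have := (key g hg 1 ⟨0, by decide, 1, by simp [REq, rep_zero]⟩).1
  simpa using this

theorem mOrb_cover (q : J ⧸ HH) : ∃ a, q ∈ mOrb a := by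
  obtain ⟨g, rfl⟩ := QuotientGroup.mk_surjective q
  obtain ⟨j, hj, m, hm⟩ := cov_all g⁻¹
  obtain ⟨a, rfl⟩ := mem_nodeList hj
  refine ⟨a, m⁻¹, ?_⟩
  show QuotientGroup.mk (phi m⁻¹ * (rep (nd a))⁻¹) = _
  rw [QuotientGroup.eq]
  simpa [REq] using HH.inv_mem hm

theorem mOrb_le (a : Fin 20) : (mOrb a).ncard ≤ bound (nd a) := by
  classical
  refine le_trans ?_ (stab_bound _ (nd_mem a))
  let Fq : ↥M24 ⧸ nodeStab phi HH rep (nd a) → J ⧸ HH :=
    Quotient.lift (fun m => phi m • pnt (nd a)) (by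
      intro x y hxy
      rw [← Quotient.eq_iff_equiv, Quotient.eq, QuotientGroup.leftRel_apply] at hxy
      have h : REq HH (rep (nd a) * phi (x⁻¹ * y)) (rep (nd a)) := hxy
      show QuotientGroup.mk (phi x * (rep (nd a))⁻¹) = QuotientGroup.mk (phi y * (rep (nd a))⁻¹)
      rw [QuotientGroup.eq]
      simpa [REq, mul_assoc] using h)
  have hsub : mOrb a ⊆ Set.range Fq := fun q ⟨m, hm⟩ => ⟨QuotientGroup.mk m, hm⟩
  calc (mOrb a).ncard ≤ (Set.range Fq).ncard := Set.ncard_le_ncard hsub (Set.finite_range Fq)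
    _ ≤ _ := by
      rw [Subgroup.index, ← Set.image_univ, ← Set.ncard_univ]
      exact Set.ncard_image_le (Set.toFinite _)

theorem card_quot : Nat.card (J ⧸ HH) = 173067389 := index_HH

theorem mOrb_exact : (∀ a, (mOrb a).ncard = bound (nd a)) ∧
    ∀ a b, a ≠ b → Disjoint (mOrb a) (mOrb b) :=
  exact_cover mOrb _ mOrb_cover mOrb_le (by rw [card_quot]; decide)

/-! ### Joins -/

theorem mv_spec {e : Mv} (h : mvOK e = true) : ∃ u : J, u ∈ HH ∧ u • pnt e.i = pnt e.j ∧
    (e.m = e.m' → u = pv phi e.m * hh⁻¹ * (pv phi e.m)⁻¹) ∧ pv phi e.m ∈ phi.range := by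
  simp only [mvOK, Bool.and_eq_true] at h
  obtain ⟨⟨hm, hm'⟩, hw⟩ := h
  have hv : Val e.m := ⟨validT_of_inM24 hm, mem_M24_of_inM24 hm⟩
  have hv' : Val e.m' := ⟨validT_of_inM24 hm', mem_M24_of_inM24 hm'⟩
  obtain ⟨i', m', hk, -, hr⟩ := walk_sound cen sem_all e.ms e.i e.m hks _ hv hw
  simp only [Bool.and_eq_true, Nat.beq_eq] at hk
  obtain ⟨rfl, rfl⟩ := hk
  rw [tP_hks] at hr
  have hp : pv phi e.m ∈ phi.range := by rw [pv_eq hv]; exact ⟨_, rfl⟩
  have hp' : pv phi e.m' ∈ phi.range := by rw [pv_eq hv']; exact ⟨_, rfl⟩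
  refine ⟨pv phi e.m' * hh⁻¹ * (pv phi e.m)⁻¹, ?_, ?_, fun he => by rw [he], hp⟩
  · exact HH.mul_mem (HH.mul_mem (range_le hp') (HH.inv_mem (EE_le_HH hh_mem_EE)))
      (HH.inv_mem (range_le hp))
  · show QuotientGroup.mk _ = QuotientGroup.mk (rep e.j)⁻¹
    rw [QuotientGroup.eq]
    simpa [REq, mul_assoc] using hr

/-- the orbit of a class -/
noncomputable def hOrb (k : Fin 7) : Set (J ⧸ HH) := orbit ↥HH (pnt (root k))

theorem join {e : Mv} (he : e ∈ joins) : pnt e.j ∈ orbit ↥HH (pnt e.i) := by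
  obtain ⟨u, hu, h, -⟩ := mv_spec (List.all_eq_true.1 moves_ok e (List.mem_cons_of_mem _ he))
  exact ⟨⟨u, hu⟩, h⟩

theorem node_mem (a : Fin 20) : pnt (nd a) ∈ hOrb (cl a) := by
  have Jn := fun k (hk : k < joins.length) =>
    join (List.getElem_mem hk)
  have e18 := Jn 0 (by decide); have e29 := Jn 1 (by decide); have e26 := Jn 2 (by decide)
  have e317 := Jn 3 (by decide); have e315 := Jn 4 (by decide); have e35 := Jn 5 (by decide)
  have e310 := Jn 6 (by decide); have e419 := Jn 7 (by decide); have e416 := Jn 8 (by decide)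
  have e612 := Jn 9 (by decide); have e711 := Jn 10 (by decide); have e1417 := Jn 11 (by decide)
  have e2018 := Jn 12 (by decide)
  have sym : ∀ {x y : J ⧸ HH}, x ∈ orbit ↥HH y → y ∈ orbit ↥HH x := fun h => mem_orbit_symm.1 h
  have tr : ∀ {x y w : J ⧸ HH}, x ∈ orbit ↥HH y → y ∈ orbit ↥HH w → x ∈ orbit ↥HH w :=
    fun h h' => (orbit_eq_iff.2 h') ▸ h
  have e14 := tr (sym e1417) e317
  have e12 := tr e612 e26
  have e20 := sym e2018
  fin_cases a <;> simp only [hOrb] <;> first
    | exact mem_orbit_self _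
    | assumption

/-- the points of a class -/
noncomputable def part (k : Fin 7) : Set (J ⧸ HH) := ⋃ a ∈ {a : Fin 20 | cl a = k}, mOrb a

theorem mOrb_sub (a : Fin 20) : mOrb a ⊆ hOrb (cl a) := by
  rintro _ ⟨m, rfl⟩
  rw [hOrb, ← orbit_eq_iff.2 (node_mem a)]
  exact ⟨⟨phi m, range_le ⟨m, rfl⟩⟩, rfl⟩

theorem part_sub (k : Fin 7) : part k ⊆ hOrb k := by
  refine Set.iUnion₂_subset fun a ha => ?_
  exact (ha : cl a = k) ▸ mOrb_sub a

theorem part_cover (q : J ⧸ HH) : ∃ k, q ∈ part k := by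
  obtain ⟨a, ha⟩ := mOrb_cover q
  exact ⟨cl a, Set.mem_iUnion₂.2 ⟨a, rfl, ha⟩⟩

theorem part_exact : (∀ k, (part k).ncard = size k) ∧
    ∀ k l, k ≠ l → Disjoint (part k) (part l) := by
  refine exact_cover part _ part_cover (fun k => ?_) (by rw [card_quot]; decide)
  have h : part k = ⋃ a ∈ (Finset.univ.filter fun a => cl a = k), mOrb a := by
    simp [part]
  rw [h]
  refine (Finset.set_ncard_biUnion_le _ _).trans ?_
  rw [Finset.sum_congr rfl fun a _ => mOrb_exact.1 a]
  clear h
  revert k; decide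

/-! ### Separation -/

/-- the classes inside an orbit -/
noncomputable def inside (k : Fin 7) : Finset (Fin 7) :=
  @Finset.filter _ (fun l => hOrb l = hOrb k) (Classical.decPred _) Finset.univ

theorem ncard_hOrb (k : Fin 7) : (hOrb k).ncard = ∑ l ∈ inside k, size l := by
  classical
  have h : hOrb k = ⋃ l ∈ inside k, part l := by
    ext q
    constructor
    · intro hq
      obtain ⟨l, hl⟩ := part_cover q
      refine Set.mem_iUnion₂.2 ⟨l, ?_, hl⟩
      have h1 : orbit ↥HH q = hOrb l := orbit_eq_iff.2 (part_sub l hl)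
      have h2 : orbit ↥HH q = hOrb k := orbit_eq_iff.2 hq
      simp [inside, ← h1, h2]
    · intro hq
      obtain ⟨l, hl, hql⟩ := Set.mem_iUnion₂.1 hq
      have : hOrb l = hOrb k := by simpa [inside] using hl
      exact this ▸ part_sub l hql
  haveI : Fintype (J ⧸ HH) := Fintype.ofFinite _
  have hc : (⋃ l ∈ inside k, part l) =
      (((inside k).biUnion fun l => (part l).toFinset : Finset (J ⧸ HH)) : Set (J ⧸ HH)) := by
    ext; simp
  rw [h, hc, Set.ncard_coe_finset, Finset.card_biUnion fun a _ b _ hab => by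
    simpa [Function.onFun, Set.disjoint_toFinset] using part_exact.2 a b hab]
  exact Finset.sum_congr rfl fun l _ => by rw [← Set.ncard_eq_toFinset_card', part_exact.1]

theorem ncard_hOrb_dvd (k : Fin 7) : (hOrb k).ncard ∣ 501397585920 := by
  rw [hOrb, ← index_stabilizer, ← card_HH]
  exact Subgroup.index_dvd_card _

theorem subsets_ok : ∀ T : Finset (Fin 7), ∀ k ∈ T, (∑ l ∈ T, size l) ∣ 501397585920 →
    T = {k} ∨ T = {4, 5} := by
  decide +kernel

theorem inside_ne_pair (k : Fin 7) : inside k ≠ {4, 5} := by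
  classical
  intro hT
  have h45 : hOrb 4 = hOrb k ∧ hOrb 5 = hOrb k := by
    have h4 : (4 : Fin 7) ∈ inside k := by rw [hT]; decide
    have h5 : (5 : Fin 7) ∈ inside k := by rw [hT]; decide
    exact ⟨by simpa [inside] using h4, by simpa [inside] using h5⟩
  have hn : (hOrb k).ncard = 87048192 := by rw [ncard_hOrb, hT]; decide
  set x : J ⧸ HH := pnt (nd 15) with hx
  have hxk : orbit ↥HH x = hOrb k := (orbit_eq_iff.2 (node_mem 15)).trans h45.1
  have hy : ∀ a, hOrb (cl a) = hOrb k → pnt (nd a) ∈ orbit ↥HH x := fun a ha =>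
    hxk ▸ ha ▸ node_mem a
  haveI : (E.EE.subgroupOf HH).Normal :=
    Subgroup.normal_subgroupOf_of_le_normalizer HH_le_normalizer
  set Esub := E.EE.subgroupOf HH with hE
  set Rsub := phi.range.subgroupOf HH with hR
  have htop : Esub ⊔ Rsub = ⊤ := by
    rw [hE, hR, ← subgroupOf_sup EE_le_HH range_le, ← HH_eq_sup, subgroupOf_self]
  have horb : ∀ a, (orbit ↥Rsub (pnt (nd a))).ncard = bound (nd a) := by
    intro a
    rw [← mOrb_exact.1 a]
    congr 1
    ext q
    constructor
    · rintro ⟨⟨r, hr⟩, rfl⟩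
      obtain ⟨m, hm⟩ := mem_subgroupOf.1 hr
      exact ⟨m, by show phi m • pnt (nd a) = (r : J) • pnt (nd a); rw [hm]⟩
    · rintro ⟨m, rfl⟩
      exact ⟨⟨⟨phi m, range_le ⟨m, rfl⟩⟩, m, rfl⟩, rfl⟩
  set M := Esub ⊔ stabilizer (↥HH) x with hM
  have d14 : M.index ∣ 212520 := by
    have := index_sup_stab_dvd htop (hy 13 (by simpa [cl] using h45.2))
    rwa [horb 13] at this
  have d19 : M.index ∣ 12241152 := by
    have := index_sup_stab_dvd htop (hy 18 (by simpa [cl] using h45.1))
    rwa [horb 18] at this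
  have hgcd : M.index ∣ 42504 := (Nat.dvd_gcd d14 d19).trans (by norm_num)
  have hS : Nat.card ↥(stabilizer (↥HH) x) = 5760 := by
    have h := Subgroup.card_mul_index (stabilizer (↥HH) x)
    rw [index_stabilizer, hxk, hn, card_HH] at h
    omega
  obtain ⟨u, huH, hu, huv, hmr⟩ := mv_spec (List.all_eq_true.1 moves_ok fixed List.mem_cons_self)
  have huv' := huv rfl
  have huE : u ∈ E.EE := by
    rw [huv']
    exact (mem_normalizer_iff.1 (range_le_normalizer hmr) _).1 (E.EE.inv_mem hh_mem_EE)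
  have hu1 : (⟨u, huH⟩ : ↥HH) ≠ 1 := by
    intro e
    have : u = 1 := congrArg Subtype.val e
    rw [huv'] at this
    have h2 := conj_eq_one_iff.1 this
    exact hh_ne_one (inv_eq_one.1 h2)
  have hfix : (⟨u, huH⟩ : ↥HH) • x = x := hu
  have hle := card_sup_stab_le (E := Esub) (x := x) (mem_subgroupOf.2 huE) hu1 hfix
  rw [hS, Nat.card_congr (subgroupOfEquivOfLe EE_le_HH).toEquiv, card_EE] at hle
  have hmul := Subgroup.card_mul_index M
  rw [card_HH] at hmul
  have h1 : M.index ≤ 42504 := Nat.le_of_dvd (by norm_num) hgcd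
  have h2 : Nat.card ↥M * M.index ≤ 5898240 * 42504 :=
    Nat.mul_le_mul (by rw [hM]; omega) h1
  omega

theorem ncard_eq (k : Fin 7) : (hOrb k).ncard = size k ∧ inside k = {k} := by
  classical
  have hk : k ∈ inside k := by simp [inside]
  rcases subsets_ok _ k hk (ncard_hOrb k ▸ ncard_hOrb_dvd k) with h | h
  · exact ⟨by rw [ncard_hOrb, h, Finset.sum_singleton], h⟩
  · exact absurd h (inside_ne_pair k)

/-- **The seven orbits.** -/
theorem seven_orbits : (∀ k l : Fin 7, k ≠ l → hOrb k ≠ hOrb l) ∧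
    (∀ q, ∃ k, q ∈ hOrb k) ∧ ∀ k, (hOrb k).ncard = size k := by
  classical
  refine ⟨fun k l hkl e => hkl ?_, fun q => ?_, fun k => (ncard_eq k).1⟩
  · have : k ∈ inside l := by simp [inside, e]
    rw [(ncard_eq l).2, Finset.mem_singleton] at this
    exact this
  · obtain ⟨k, hk⟩ := part_cover q
    exact ⟨k, part_sub k hk⟩

end Cfsg.Agent.H95.J4Rank
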